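import Mathlib.RingTheory.Localization.BaseChange
import Mathlib.RingTheory.Localization.Integral
import Mathlib.RingTheory.Localization.InvSubmonoid
import Mathlib.RingTheory.Localization.LocalizationLocalization
import Mathlib.RingTheory.LocalProperties.Reduced
import Mathlib.RingTheory.Spectrum.Prime.Topology
import Mathlib.RingTheory.Valuation.ValuationRing
import Mathlib.RingTheory.FiniteType
import Mathlib.FieldTheory.IsSepClosed

/-!
# Node FINDOM of S14900: induction on the spectrum of the valuation ring

`K212.FinDom.finite_of_isDomain`; also `finite_of_locFin` (local finiteness implies finiteness).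
-/

set_option autoImplicit false
universe u
open TensorProduct

namespace K212.FinDom

def LocFin (A B : Type*) [CommRing A] [CommRing B] [Algebra A B] (f : A) : Prop :=
  ∃ M : Submodule A (integralClosure A B), M.FG ∧ ∀ x : integralClosure A B, ∃ n : ℕ, f ^ n • x ∈ M

theorem finite_of_locFin {A B : Type*} [CommRing A] [CommRing B] [Algebra A B]
    (h : ∀ q : Ideal A, q.IsPrime → ∃ f ∉ q, LocFin A B f) : Module.Finite A (integralClosure A B) := by
  classical
  have hspan : Ideal.span {f : A | LocFin A B f} = ⊤ := by
    by_contra hne
    obtain ⟨m, hm, hle⟩ := Ideal.exists_le_maximal _ hne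
    obtain ⟨f, hf, hF⟩ := h m hm.isPrime
    exact hf (hle (Ideal.subset_span hF))
  obtain ⟨s, hs, hs1⟩ : ∃ s : Finset A, (s : Set A) ⊆ {f : A | LocFin A B f} ∧ Ideal.span (s : Set A) = ⊤ :=
    (Ideal.span_eq_top_iff_finite _).1 hspan
  choose! M hM hMx using fun (f : A) (hf : f ∈ (s : Set A)) => (hs hf : LocFin A B f)
  refine ⟨?_⟩
  have htop : (⨆ f ∈ s, M f) = ⊤ := by
    rw [eq_top_iff]
    intro x _
    refine Submodule.mem_of_span_eq_top_of_smul_pow_mem _ (s : Set A) hs1 x ?_
    rintro ⟨f, hf⟩
    obtain ⟨n, hn⟩ := hMx f hf x
    refine ⟨n, ?_⟩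
    exact (le_iSup₂_of_le (f := fun f (_ : f ∈ s) => M f) f hf le_rfl) hn
  rw [← htop]
  exact Submodule.fg_biSup s M fun f hf => hM f hf

/-- passage from a basic open to local finiteness -/
theorem locFin_of_away {A B : Type*} [CommRing A] [CommRing B] [Algebra A B] (f : A)
    (T : Type*) [CommRing T] [Algebra A T] [IsLocalization.Away f T] [Algebra T B] [IsScalarTower A T B]
    (hfin : Module.Finite T (integralClosure T B)) : LocFin A B f := by
  classical
  obtain ⟨s, hs⟩ := hfin.fg_top
  have hint : ∀ y : integralClosure T B, ∃ n : ℕ, IsIntegral A (f ^ n • (y : B)) := by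
    intro y
    obtain ⟨⟨_, n, rfl⟩, hn⟩ := IsIntegral.exists_multiple_integral_of_isLocalization (Submonoid.powers f)
      (y : B) y.2
    exact ⟨n, hn⟩
  choose n hn using hint
  let z : integralClosure T B → integralClosure A B := fun y => ⟨f ^ n y • (y : B), hn y⟩
  refine ⟨Submodule.span A (z '' (s : Set (integralClosure T B))),
    Submodule.fg_span (s.finite_toSet.image z), fun x => ?_⟩
  have key : ∀ w : integralClosure T B, ∃ (k : ℕ) (m : integralClosure A B),
      m ∈ Submodule.span A (z '' (s : Set (integralClosure T B))) ∧ f ^ k • (w : B) = (m : B) := by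
    intro w
    have hw : w ∈ Submodule.span T (s : Set (integralClosure T B)) := hs ▸ Submodule.mem_top
    induction hw using Submodule.span_induction with
    | mem y hy => exact ⟨n y, z y, Submodule.subset_span ⟨y, hy, rfl⟩, rfl⟩
    | zero => exact ⟨0, 0, Submodule.zero_mem _, by simp⟩
    | add a b _ _ ha hb =>
      obtain ⟨k, m, hm, hk⟩ := ha
      obtain ⟨l, m', hm', hl⟩ := hb
      refine ⟨k + l, f ^ l • m + f ^ k • m', Submodule.add_mem _ (Submodule.smul_mem _ _ hm)
        (Submodule.smul_mem _ _ hm'), ?_⟩
      have h1 : ((f ^ l • m + f ^ k • m' : integralClosure A B) : B) = f ^ l • (m : B) + f ^ k • (m' : B) := rfl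
      rw [h1, ← hk, ← hl, Subalgebra.coe_add, smul_add, smul_smul, smul_smul, ← pow_add, ← pow_add, add_comm l k]
    | smul t a _ ha =>
      obtain ⟨k, m, hm, hk⟩ := ha
      obtain ⟨l, c, hc⟩ := IsLocalization.Away.surj f t
      refine ⟨l + k, c • m, Submodule.smul_mem _ _ hm, ?_⟩
      have h1 : ((c • m : integralClosure A B) : B) = c • (m : B) := rfl
      have h2 : ((t • a : integralClosure T B) : B) = t • (a : B) := rfl
      rw [h1, h2, ← hk, ← algebraMap_smul T (f ^ (l + k)) (t • (a : B)), smul_smul, pow_add, map_mul,
        map_pow, mul_right_comm, mul_comm _ t, hc, ← smul_smul, algebraMap_smul, algebraMap_smul]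
  obtain ⟨k, m, hm, hk⟩ := key ⟨x, x.2.tower_top⟩
  refine ⟨k, ?_⟩
  have : f ^ k • x = m := Subtype.ext hk
  rw [this]; exact hm

/-- reducedness of a tensor product over a localization -/
theorem isReduced_tensor {R S A T E : Type u} [CommRing R] [CommRing S] [CommRing A] [CommRing T] [CommRing E]
    [Algebra R S] [Algebra R A] [Algebra R T] [Algebra A T] [Algebra S T] [IsScalarTower R S T] [IsScalarTower R A T]
    [Algebra S E] [Algebra R E] [IsScalarTower R S E] (M : Submonoid R) [IsLocalization M S] (N : Submonoid A)
    [IsLocalization N T] (h : IsReduced (E ⊗[R] A)) : IsReduced (E ⊗[S] T) := by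
  let : Algebra (E ⊗[R] A) (E ⊗[R] T) :=
    (Algebra.TensorProduct.map (AlgHom.id R E) (IsScalarTower.toAlgHom R A T)).toAlgebra
  have : IsScalarTower E (E ⊗[R] A) (E ⊗[R] T) :=
    .of_algebraMap_eq <| by intro; simp [RingHom.algebraMap_toAlgebra]
  have := IsLocalization.tensorProduct_tensorProduct_right R E N T
    (by ext; simp [RingHom.algebraMap_toAlgebra])
  have h1 : IsReduced (E ⊗[R] T) :=
    isReduced_localizationPreserves (N.map (Algebra.TensorProduct.includeRight (R := R) (A := E))) (E ⊗[R] T) h
  let e := IsLocalization.algebraTensorEquiv M S E T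
  exact isReduced_of_injective e.toRingEquiv.toRingHom e.injective

theorem isSepClosed_of_ringEquiv {K L : Type*} [Field K] [Field L] [IsSepClosed K] (e : K ≃+* L) :
    IsSepClosed L := by
  refine ⟨fun p hp => ?_⟩
  have h1 : (p.map e.symm.toRingHom).Separable := hp.map
  have h2 := IsSepClosed.splits_of_separable _ h1
  have h3 := h2.map e.toRingHom
  rw [Polynomial.map_map] at h3
  have h4 : e.toRingHom.comp e.symm.toRingHom = RingHom.id L := by
    ext x; simp
  rwa [h4, Polynomial.map_id] at h3

/-- The statement of the node LOC2 (`exists_locFin_of_over_max`). -/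
def OverMax : Prop := ∀ (R : Type u) [CommRing R] [IsDomain R] [ValuationRing R] (_ : ¬ IsField R)
    (_ : ∀ (d : ℕ) (E : Type u) [Field E] [Algebra (MvPolynomial (Fin d) R) E]
      [IsFractionRing (MvPolynomial (Fin d) R) E]
      (L : Type u) [Field L] [Algebra E L] [FiniteDimensional E L] [Algebra.IsSeparable E L]
      [Algebra (MvPolynomial (Fin d) R) L] [IsScalarTower (MvPolynomial (Fin d) R) E L],
      Module.Finite (MvPolynomial (Fin d) R) (integralClosure (MvPolynomial (Fin d) R) L))
    (K : Type u) [Field K] [Algebra R K] [IsFractionRing R K] [IsSepClosed K]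
    (A : Type u) [CommRing A] [IsDomain A] [Algebra R A] [Algebra.FiniteType R A]
    (_ : Function.Injective (algebraMap R A))
    (L : Type u) [Field L] [Algebra A L] [IsFractionRing A L] [Algebra K L] [Algebra R L]
    [IsScalarTower R K L] [IsScalarTower R A L]
    (_ : ∀ (E : Type u) [Field E] [Algebra K E], IsReduced (E ⊗[K] L))
    (B : Type u) [CommRing B] [Algebra A B]
    [IsLocalization (Algebra.algebraMapSubmonoid A (nonZeroDivisors R)) B]
    (q : Ideal A) [q.IsPrime] (_ : (IsLocalRing.maximalIdeal R).map (algebraMap R A) ≤ q),
    ∃ f ∉ q, LocFin A B f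

theorem finite_of_isDomain (hloc : OverMax.{u})
    (hF : ∀ (R : Type u) [CommRing R] [IsDomain R] [ValuationRing R] [IsSepClosed (FractionRing R)] (_ : ¬ IsField R)
      (d : ℕ) (E : Type u) [Field E] [Algebra (MvPolynomial (Fin d) R) E] [IsFractionRing (MvPolynomial (Fin d) R) E]
      (L : Type u) [Field L] [Algebra E L] [FiniteDimensional E L] [Algebra.IsSeparable E L]
      [Algebra (MvPolynomial (Fin d) R) L] [IsScalarTower (MvPolynomial (Fin d) R) E L],
      Module.Finite (MvPolynomial (Fin d) R) (integralClosure (MvPolynomial (Fin d) R) L))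
    (R : Type u) [CommRing R] [IsDomain R] [ValuationRing R] [Finite (PrimeSpectrum R)] [IsSepClosed (FractionRing R)]
    (A : Type u) [CommRing A] [IsDomain A] [Algebra R A] [Algebra.FiniteType R A]
    (hinj : Function.Injective (algebraMap R A))
    (hred : ∀ (E : Type u) [Field E] [Algebra R E], Function.Injective (algebraMap R E) → IsReduced (E ⊗[R] A))
    (B : Type u) [CommRing B] [Algebra A B] [IsLocalization (Algebra.algebraMapSubmonoid A (nonZeroDivisors R)) B] :
    Module.Finite A (integralClosure A B) := by
  induction hn : Nat.card (PrimeSpectrum R) using Nat.strong_induction_on generalizing R A B with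
  | _ n ih =>
  by_cases hR : IsField R
  · -- `A → B` is surjective
    have hs : Function.Surjective (algebraMap A B) := by
      have hle : Algebra.algebraMapSubmonoid A (nonZeroDivisors R) ≤ IsUnit.submonoid A := by
        rintro _ ⟨r, hr, rfl⟩
        obtain ⟨s, hs⟩ := hR.mul_inv_cancel (nonZeroDivisors.ne_zero hr)
        exact (IsUnit.of_mul_eq_one s hs).map (algebraMap R A)
      exact (IsLocalization.atUnits A _ hle).surjective
    refine Module.Finite.of_surjective (Algebra.linearMap A (integralClosure A B)) ?_
    rintro ⟨x, hx⟩
    obtain ⟨a, rfl⟩ := hs x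
    exact ⟨a, rfl⟩
  · refine finite_of_locFin fun q hq => ?_
    by_cases hmq : (IsLocalRing.maximalIdeal R).map (algebraMap R A) ≤ q
    · -- over the maximal ideal
      have : FaithfulSMul R (FractionRing A) := by
        rw [faithfulSMul_iff_algebraMap_injective, IsScalarTower.algebraMap_eq R A (FractionRing A)]
        exact (IsFractionRing.injective A (FractionRing A)).comp hinj
      let : Algebra (FractionRing R) (FractionRing A) := FractionRing.liftAlgebra R (FractionRing A)
      have : IsScalarTower R (FractionRing R) (FractionRing A) := FractionRing.isScalarTower_liftAlgebra R _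
      refine hloc R hR (fun d E _ _ _ L _ _ _ _ _ _ => hF R hR d E L) (FractionRing R) A hinj (FractionRing A) ?_ B q hmq
      intro E _ _
      let : Algebra R E := ((algebraMap (FractionRing R) E).comp (algebraMap R (FractionRing R))).toAlgebra
      have : IsScalarTower R (FractionRing R) E := .of_algebraMap_eq' rfl
      refine isReduced_tensor (nonZeroDivisors R) (nonZeroDivisors A) (hred E ?_)
      exact (algebraMap (FractionRing R) E).injective.comp (IsFractionRing.injective R (FractionRing R))
    · -- away from the closed fibre
      obtain ⟨c, hc, hcq⟩ : ∃ c ∈ IsLocalRing.maximalIdeal R, algebraMap R A c ∉ q := by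
        by_contra h
        push Not at h
        exact hmq (Ideal.map_le_iff_le_comap.2 fun x hx => h x hx)
      have hc0 : c ≠ 0 := by rintro rfl; exact hcq (by simp)
      have hcA : algebraMap R A c ≠ 0 := fun h => hcq (by simp [h])
      have hpc : Submonoid.powers c ≤ nonZeroDivisors R := powers_le_nonZeroDivisors_of_noZeroDivisors hc0
      have hpcA : Submonoid.powers (algebraMap R A c) ≤ nonZeroDivisors A :=
        powers_le_nonZeroDivisors_of_noZeroDivisors hcA
      refine ⟨algebraMap R A c, hcq, ?_⟩
      let S := Localization.Away c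
      let T := Localization.Away (algebraMap R A c)
      have : IsDomain S := IsLocalization.isDomain_of_le_nonZeroDivisors S hpc
      have : IsDomain T := IsLocalization.isDomain_of_le_nonZeroDivisors T hpcA
      let K := FractionRing R
      let : Algebra S K := (IsLocalization.Away.lift c (g := algebraMap R K)
        (IsUnit.mk0 _ (by simpa using hc0))).toAlgebra
      have : IsScalarTower R S K := .of_algebraMap_eq fun x =>
        (IsLocalization.Away.lift_eq c (IsUnit.mk0 _ (by simpa using hc0)) x).symm
      have : IsFractionRing S K := IsFractionRing.isFractionRing_of_isLocalization (Submonoid.powers c) S K hpc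
      have : ValuationRing S := by
        rw [ValuationRing.iff_isInteger_or_isInteger S K]
        intro x
        have hx : IsLocalization.IsInteger R x ∨ IsLocalization.IsInteger R x⁻¹ :=
          ValuationRing.isInteger_or_isInteger R x
        refine hx.imp ?_ ?_
        · rintro ⟨r, hr⟩
          exact ⟨algebraMap R S r, by rw [← IsScalarTower.algebraMap_apply, hr]⟩
        · rintro ⟨r, hr⟩
          exact ⟨algebraMap R S r, by rw [← IsScalarTower.algebraMap_apply, hr]⟩
      have hcinj : Function.Injective (PrimeSpectrum.comap (algebraMap R S)) :=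
        PrimeSpectrum.localization_comap_injective S (Submonoid.powers c)
      have : Finite (PrimeSpectrum S) := Finite.of_injective _ hcinj
      have hcard : Nat.card (PrimeSpectrum S) < Nat.card (PrimeSpectrum R) := by
        by_contra hle
        push Not at hle
        have hb := hcinj.bijective_of_nat_card_le hle
        obtain ⟨y, hy⟩ := hb.2 (IsLocalRing.closedPoint R)
        have h1 : c ∈ (PrimeSpectrum.comap (algebraMap R S) y).asIdeal := by rw [hy]; exact hc
        have h2 : algebraMap R S c ∈ y.asIdeal := h1
        exact y.2.ne_top (Ideal.eq_top_of_isUnit_mem _ h2 (IsLocalization.Away.algebraMap_isUnit c))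
      have : IsSepClosed (FractionRing S) :=
        isSepClosed_of_ringEquiv (IsLocalization.algEquiv (nonZeroDivisors S) K (FractionRing S)).toRingEquiv
      let : Algebra S T := (IsLocalization.Away.map S T (algebraMap R A) c).toAlgebra
      have : IsScalarTower R S T := .of_algebraMap_eq fun x => by
        rw [IsScalarTower.algebraMap_apply R A T]
        change algebraMap A T (algebraMap R A x) = IsLocalization.Away.map S T (algebraMap R A) c (algebraMap R S x)
        rw [IsLocalization.Away.map, IsLocalization.map_eq]
      have hST : Function.Injective (algebraMap S T) :=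
        IsLocalization.map_injective_of_injective (Submonoid.powers c) S T hinj
      have : Algebra.FiniteType A T := IsLocalization.finiteType_of_monoid_fg (Submonoid.powers (algebraMap R A c)) T
      have : Algebra.FiniteType R T := Algebra.FiniteType.trans (S := A) inferInstance inferInstance
      have : Algebra.FiniteType S T := Algebra.FiniteType.of_restrictScalars_finiteType R S T
      have huB : IsUnit (algebraMap A B (algebraMap R A c)) :=
        IsLocalization.map_units B (⟨algebraMap R A c, ⟨c, mem_nonZeroDivisors_of_ne_zero hc0, rfl⟩⟩ :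
          Algebra.algebraMapSubmonoid A (nonZeroDivisors R))
      let : Algebra T B := (IsLocalization.Away.lift (algebraMap R A c) huB).toAlgebra
      have : IsScalarTower A T B := .of_algebraMap_eq fun x =>
        (IsLocalization.Away.lift_eq (algebraMap R A c) huB x).symm
      have hle : Submonoid.powers (algebraMap R A c) ≤ Algebra.algebraMapSubmonoid A (nonZeroDivisors R) := by
        rw [Submonoid.powers_le]
        exact ⟨c, mem_nonZeroDivisors_of_ne_zero hc0, rfl⟩
      have hB1 : IsLocalization ((Algebra.algebraMapSubmonoid A (nonZeroDivisors R)).map (algebraMap A T)) B :=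
        IsLocalization.isLocalization_of_submonoid_le T B (Submonoid.powers (algebraMap R A c)) _ hle
      have hB2 : IsLocalization (Algebra.algebraMapSubmonoid T (nonZeroDivisors S)) B := by
        refine IsLocalization.isLocalization_of_is_exists_mul_mem B
          ((Algebra.algebraMapSubmonoid A (nonZeroDivisors R)).map (algebraMap A T)) _ ?_ ?_
        · rintro _ ⟨_, ⟨r, hr, rfl⟩, rfl⟩
          refine ⟨algebraMap R S r, ?_, ?_⟩
          · refine mem_nonZeroDivisors_of_ne_zero fun h => nonZeroDivisors.ne_zero hr ?_
            exact IsLocalization.injective S hpc (by rw [h, map_zero])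
          · rw [← IsScalarTower.algebraMap_apply, ← IsScalarTower.algebraMap_apply]
        · rintro ⟨_, ⟨s, hs, rfl⟩⟩
          obtain ⟨k, r, hr⟩ := IsLocalization.Away.surj c s
          refine ⟨algebraMap R T (c ^ k), algebraMap R A r, ⟨r, ?_, rfl⟩, ?_⟩
          · refine mem_nonZeroDivisors_of_ne_zero ?_
            rintro rfl
            rw [map_zero, mul_eq_zero] at hr
            rcases hr with hr | hr
            · exact nonZeroDivisors.ne_zero hs hr
            · exact (IsLocalization.Away.algebraMap_pow_isUnit c k : IsUnit (algebraMap R S c ^ k)).ne_zero hr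
          · change algebraMap A T (algebraMap R A r) = algebraMap R T (c ^ k) * algebraMap S T s
            rw [← IsScalarTower.algebraMap_apply R A T, IsScalarTower.algebraMap_apply R S T r, ← hr, map_mul,
              mul_comm, IsScalarTower.algebraMap_apply R S T (c ^ k), map_pow (algebraMap R S)]
      refine locFin_of_away (algebraMap R A c) T (ih _ (hn ▸ hcard) S T hST ?_ B rfl)
      intro E _ _ hE
      let : Algebra R E := ((algebraMap S E).comp (algebraMap R S)).toAlgebra
      have : IsScalarTower R S E := .of_algebraMap_eq' rfl
      refine isReduced_tensor (Submonoid.powers c) (Submonoid.powers (algebraMap R A c)) (hred E ?_)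
      exact hE.comp (IsLocalization.injective S hpc)

end K212.FinDom
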